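import Cfsg.Agent.Lib.Helper9.TCData.P0C1.S0
import Cfsg.Agent.Lib.Helper9.TCData.P0C1.S1
import Cfsg.Agent.Lib.Helper9.TCData.P0C1.S2
import Cfsg.Agent.Lib.Helper9.TCData.P0C1.S3
import Cfsg.Agent.Lib.Helper9.TCData.P0C1.S4

set_option autoImplicit false
set_option maxRecDepth 1000000

namespace Cfsg.Agent.Helper9.TCData.P0C1
open Cfsg.Agent.Helper9.TC2


theorem hE0 : ∀ u < 164, chkE tab 0 u = true := by
  have h0 : ∀ u < 0, (fun u => chkE tab 0 u) u = true := range_zero
  have h1 : ∀ u < 164, (fun u => chkE tab 0 u) u = true := ext_range (a := 0) (len := 164) h0 e0_0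
  exact h1

theorem hE1 : ∀ u < 164, chkE tab 1 u = true := by
  have h0 : ∀ u < 0, (fun u => chkE tab 1 u) u = true := range_zero
  have h1 : ∀ u < 164, (fun u => chkE tab 1 u) u = true := ext_range (a := 0) (len := 164) h0 e1_0
  exact h1

theorem hE2 : ∀ u < 164, chkE tab 2 u = true := by
  have h0 : ∀ u < 0, (fun u => chkE tab 2 u) u = true := range_zero
  have h1 : ∀ u < 164, (fun u => chkE tab 2 u) u = true := ext_range (a := 0) (len := 164) h0 e2_0
  exact h1

theorem hE3 : ∀ u < 164, chkE tab 3 u = true := by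
  have h0 : ∀ u < 0, (fun u => chkE tab 3 u) u = true := range_zero
  have h1 : ∀ u < 164, (fun u => chkE tab 3 u) u = true := ext_range (a := 0) (len := 164) h0 e3_0
  exact h1

theorem hE4 : ∀ u < 164, chkE tab 4 u = true := by
  have h0 : ∀ u < 0, (fun u => chkE tab 4 u) u = true := range_zero
  have h1 : ∀ u < 164, (fun u => chkE tab 4 u) u = true := ext_range (a := 0) (len := 164) h0 e4_0
  exact h1

theorem hE5 : ∀ u < 164, chkE tab 5 u = true := by
  have h0 : ∀ u < 0, (fun u => chkE tab 5 u) u = true := range_zero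
  have h1 : ∀ u < 164, (fun u => chkE tab 5 u) u = true := ext_range (a := 0) (len := 164) h0 e5_0
  exact h1

theorem hE6 : ∀ u < 164, chkE tab 6 u = true := by
  have h0 : ∀ u < 0, (fun u => chkE tab 6 u) u = true := range_zero
  have h1 : ∀ u < 164, (fun u => chkE tab 6 u) u = true := ext_range (a := 0) (len := 164) h0 e6_0
  exact h1

theorem hE7 : ∀ u < 164, chkE tab 7 u = true := by
  have h0 : ∀ u < 0, (fun u => chkE tab 7 u) u = true := range_zero
  have h1 : ∀ u < 164, (fun u => chkE tab 7 u) u = true := ext_range (a := 0) (len := 164) h0 e7_0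
  exact h1

theorem hE8 : ∀ u < 164, chkE tab 8 u = true := by
  have h0 : ∀ u < 0, (fun u => chkE tab 8 u) u = true := range_zero
  have h1 : ∀ u < 164, (fun u => chkE tab 8 u) u = true := ext_range (a := 0) (len := 164) h0 e8_0
  exact h1

theorem hL : ∀ u < 164, chkL tab u = true := by
  have h0 : ∀ u < 0, (fun u => chkL tab u) u = true := range_zero
  have h1 : ∀ u < 164, (fun u => chkL tab u) u = true := ext_range (a := 0) (len := 164) h0 l_0
  exact h1

theorem hF : ∀ u < 120, chkFin tab u = true := by
  have h0 : ∀ u < 0, (fun u => chkFin tab u) u = true := range_zero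
  have h1 : ∀ u < 120, (fun u => chkFin tab u) u = true := ext_range (a := 0) (len := 120) h0 f_0
  exact h1

theorem hC : ∀ u < 164, chkCls tab u = true := by
  have h0 : ∀ u < 0, (fun u => chkCls tab u) u = true := range_zero
  have h1 : ∀ u < 164, (fun u => chkCls tab u) u = true := ext_range (a := 0) (len := 164) h0 c_0
  exact h1

theorem hM1 : ∀ u < 120, chkM1 tab u = true := by
  have h0 : ∀ u < 0, (fun u => chkM1 tab u) u = true := range_zero
  have h1 : ∀ u < 120, (fun u => chkM1 tab u) u = true := ext_range (a := 0) (len := 120) h0 m1_0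
  exact h1

theorem hM2 : ∀ u < 120, chkFix tab mwords u = true := by
  have h0 : ∀ u < 0, (fun u => chkFix tab mwords u) u = true := range_zero
  have h1 : ∀ u < 60, (fun u => chkFix tab mwords u) u = true := ext_range (a := 0) (len := 60) h0 m2_0
  have h2 : ∀ u < 120, (fun u => chkFix tab mwords u) u = true := ext_range (a := 60) (len := 60) h1 m2_1
  exact h2

theorem hE : ∀ c < 9, ∀ u < 164, chkE tab c u = true := by
  intro c hc
  interval_cases c
  · exact hE0
  · exact hE1
  · exact hE2
  · exact hE3
  · exact hE4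
  · exact hE5
  · exact hE6
  · exact hE7
  · exact hE8

end Cfsg.Agent.Helper9.TCData.P0C1
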